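import Mathlib

/-!
# Algebra for finite subgroup schemes of `𝔾_a` and `𝔾_m` over a field (helper2)
-/

set_option autoImplicit false
set_option backward.isDefEq.respectTransparency.types false
set_option synthInstance.maxHeartbeats 400000
set_option maxHeartbeats 4000000
set_option linter.style.haveILetI false
set_option linter.unusedSectionVars false
set_option linter.unusedVariables false

open Polynomial

namespace Groth.Agent.Helper2.GaGmQuot

universe u

variable {K : Type u} [Field K]

/-! ### kernels of ring maps out of `K[X]` -/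

theorem eval₂_hom_poly {R : Type*} [CommRing R] (κ : K[X] →+* R) (p : K[X]) :
    eval₂ (κ.comp (algebraMap K K[X])) (κ X) p = κ p := by
  have h := Polynomial.hom_eval₂ p (C : K →+* K[X]) κ X
  rw [eval₂_C_X] at h
  rw [h]
  rfl

theorem pc_poly {R R' : Type*} [CommRing R] [CommRing R'] (κ : K[X] →+* R) (κ' : K[X] →+* R')
    (h : ∀ p : K[X], eval₂ (κ.comp (algebraMap K K[X])) (κ X) p = 0 →
      eval₂ (κ'.comp (algebraMap K K[X])) (κ' X) p = 0) :
    RingHom.ker κ ≤ RingHom.ker κ' := by
  intro p hp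
  rw [RingHom.mem_ker] at hp ⊢
  have := h p (by rw [eval₂_hom_poly, hp])
  rwa [eval₂_hom_poly] at this

theorem ext_poly {R : Type*} [CommRing R] (κ κ' : K[X] →+* R)
    (h1 : κ.comp (algebraMap K K[X]) = κ'.comp (algebraMap K K[X])) (h2 : κ X = κ' X) : κ = κ' :=
  Polynomial.ringHom_ext (fun a => congrArg (fun φ : K →+* R => φ a) h1) h2

/-! ### kernels of ring maps out of `K[T;T⁻¹]` -/

open LaurentPolynomial in
theorem eval₂_hom_laurent {R : Type*} [CommRing R] (κ : K[T;T⁻¹] →+* R) (p : K[X]) :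
    eval₂ (κ.comp (algebraMap K K[T;T⁻¹])) (κ (T 1)) p = κ (toLaurent p) := by
  have h := Polynomial.hom_eval₂ p (C : K →+* K[X]) (κ.comp (toLaurent : K[X] →+* K[T;T⁻¹])) X
  rw [eval₂_C_X] at h
  rw [RingHom.comp_apply, RingHom.comp_apply] at h
  rw [h, toLaurent_X]
  congr 1
  ext a
  simp

open LaurentPolynomial in
theorem pc_laurent {R R' : Type*} [CommRing R] [CommRing R'] (κ : K[T;T⁻¹] →+* R)
    (κ' : K[T;T⁻¹] →+* R')
    (h : ∀ p : K[X], eval₂ (κ.comp (algebraMap K K[T;T⁻¹])) (κ (T 1)) p = 0 →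
      eval₂ (κ'.comp (algebraMap K K[T;T⁻¹])) (κ' (T 1)) p = 0) :
    RingHom.ker κ ≤ RingHom.ker κ' := by
  intro q hq
  rw [RingHom.mem_ker] at hq ⊢
  obtain ⟨n, p, hp⟩ := exists_T_pow q
  have h1 : κ (toLaurent p) = 0 := by rw [hp, map_mul, hq, zero_mul]
  have h2 := h p (by rw [eval₂_hom_laurent, h1])
  rw [eval₂_hom_laurent, hp, map_mul] at h2
  have hu : IsUnit (κ' (T (n : ℤ))) := (isUnit_T (R := K) (n : ℤ)).map κ'
  exact (hu.mul_left_eq_zero).mp h2

open LaurentPolynomial in
theorem ext_laurent {R : Type*} [CommRing R] (κ κ' : K[T;T⁻¹] →+* R)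
    (h1 : κ.comp (algebraMap K K[T;T⁻¹]) = κ'.comp (algebraMap K K[T;T⁻¹]))
    (h2 : κ (T 1) = κ' (T 1)) : κ = κ' := by
  have hC : ∀ a : K, κ (C a) = κ' (C a) := fun a => by
    have := congrArg (fun φ : K →+* R => φ a) h1
    simpa [LaurentPolynomial.algebraMap_apply] using this
  have hT : ∀ n : ℤ, κ (T n) = κ' (T n) := by
    have hpos : ∀ n : ℕ, κ (T (n : ℤ)) = κ' (T (n : ℤ)) := fun n => by
      have e : (T (n : ℤ) : K[T;T⁻¹]) = T 1 ^ n := by rw [T_pow, mul_one]
      rw [e, map_pow, map_pow, h2]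
    intro n
    obtain ⟨m, rfl | rfl⟩ := n.eq_nat_or_neg
    · exact hpos m
    · have hu : IsUnit (κ (T (m : ℤ))) := (isUnit_T (R := K) (m : ℤ)).map κ
      apply hu.mul_left_cancel
      rw [← map_mul, ← T_add, add_neg_cancel, T_zero, map_one, hpos m, ← map_mul, ← T_add,
        add_neg_cancel, T_zero, map_one]
  refine RingHom.ext fun q => ?_
  induction q using LaurentPolynomial.induction_on' with
  | add p q hp hq => rw [map_add, map_add, hp, hq]
  | C_mul_T n a => rw [map_mul, map_mul, hC, hT]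


/-! ### additive polynomials -/

theorem hasseDeriv_map' {A B : Type*} [CommRing A] [CommRing B] (φ : A →+* B) (k : ℕ) (f : A[X]) :
    hasseDeriv k (f.map φ) = (hasseDeriv k f).map φ := by
  ext n
  simp [hasseDeriv_coeff, coeff_map]

/-- If the roots of the monic polynomial `f` in every `K`-algebra are stable under addition, then
`f` is additive. -/
theorem additive_of_roots (f : K[X]) (hf : f.Monic) (hd : 0 < f.natDegree)
    (h : ∀ (R : Type u) [CommRing R] [Algebra K R] (a b : R), aeval a f = 0 → aeval b f = 0 →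
      aeval (a + b) f = 0) :
    f.coeff 0 = 0 ∧ ∀ (S : Type u) [CommRing S] [Algebra K S] (s t : S),
      aeval (s + t) f = aeval s f + aeval t f := by
  -- the universal rings
  let B := AdjoinRoot f
  haveI : Nontrivial B := AdjoinRoot.nontrivial f (by
    rw [degree_eq_natDegree hf.ne_zero]; exact_mod_cast hd.ne')
  let a₀ : B := AdjoinRoot.root f
  let fB : B[X] := f.map (algebraMap K B)
  have hfB : fB.Monic := hf.map _
  let R := AdjoinRoot fB
  let a : R := algebraMap B R a₀
  let b : R := AdjoinRoot.root fB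
  have ha₀ : aeval a₀ f = 0 := by
    rw [aeval_def]; exact AdjoinRoot.eval₂_root f
  have ha : aeval a f = 0 := by
    change aeval (algebraMap B R a₀) f = 0
    rw [aeval_algebraMap_apply, ha₀, map_zero]
  have hb : aeval b f = 0 := by
    rw [aeval_def, IsScalarTower.algebraMap_eq K B R, ← eval₂_map]
    exact AdjoinRoot.eval₂_root fB
  have hab := h R a b ha hb
  -- taylor expansion
  have h1 : eval₂ (algebraMap B R) b (taylor a₀ fB) = 0 := by
    rw [taylor_apply, eval₂_comp' , eval₂_add, eval₂_X, eval₂_C]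
    change eval₂ (algebraMap B R) (b + a) (f.map (algebraMap K B)) = 0
    rw [eval₂_map, ← IsScalarTower.algebraMap_eq K B R, ← aeval_def, add_comm]
    exact hab
  have h2 : eval₂ (algebraMap B R) b (taylor a₀ fB - fB) = 0 := by
    rw [eval₂_sub, h1, AdjoinRoot.algebraMap_eq, AdjoinRoot.eval₂_root fB, sub_zero]
  have h3 : fB ∣ taylor a₀ fB - fB := by
    rw [← AdjoinRoot.mk_eq_zero]
    rw [← h2]
    exact (AdjoinRoot.aeval_eq _).symm.trans (aeval_def _ _)
  have hdeg : (taylor a₀ fB - fB).degree < fB.degree := by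
    have := degree_sub_lt_left (p := taylor a₀ fB) (q := fB) (degree_taylor fB a₀)
      (by rw [Ne, taylor_eq_zero]; exact hfB.ne_zero) (by rw [leadingCoeff_taylor])
    rwa [degree_taylor] at this
  have h4 : taylor a₀ fB - fB = 0 := by
    by_contra hne
    exact hfB.not_dvd_of_degree_lt hne hdeg h3
  have h5 : taylor a₀ fB = fB := sub_eq_zero.mp h4
  -- coefficientwise
  have h6 : ∀ k : ℕ, f ∣ hasseDeriv k f - C (f.coeff k) := by
    intro k
    have e := congrArg (fun q : B[X] => q.coeff k) h5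
    simp only [taylor_coeff] at e
    rw [hasseDeriv_map', eval_map, coeff_map] at e
    rw [← AdjoinRoot.mk_eq_zero, map_sub, AdjoinRoot.mk_C, sub_eq_zero, ← AdjoinRoot.algebraMap_eq]
    rw [← e]
    exact (AdjoinRoot.aeval_eq _).symm.trans (aeval_def _ _)
  have hfn : f.degree = f.natDegree := degree_eq_natDegree hf.ne_zero
  have h7 : ∀ k : ℕ, 0 < k → hasseDeriv k f = C (f.coeff k) := by
    intro k hk
    have hlt : (hasseDeriv k f - C (f.coeff k)).degree < f.degree := by
      rw [hfn]
      refine lt_of_le_of_lt (degree_sub_le _ _) ?_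
      rw [max_lt_iff]
      constructor
      · refine lt_of_le_of_lt degree_le_natDegree ?_
        have := natDegree_hasseDeriv_le f k
        exact_mod_cast (lt_of_le_of_lt this (by omega))
      · refine lt_of_le_of_lt degree_C_le ?_
        exact_mod_cast hd
    by_contra hne
    exact hf.not_dvd_of_degree_lt (fun h0 => hne (sub_eq_zero.mp h0)) hlt (h6 k)
  have h8 : f.coeff 0 = 0 := by
    have := h6 0
    rw [hasseDeriv_zero'] at this
    have h' : f ∣ C (f.coeff 0) := by
      have := (dvd_sub_self_left).mp this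
      exact this
    have hlt : (C (f.coeff 0)).degree < f.degree := by
      rw [hfn]
      refine lt_of_le_of_lt degree_C_le ?_
      exact_mod_cast hd
    by_contra hne
    exact hf.not_dvd_of_degree_lt (fun h0 => hne (C_eq_zero.mp h0)) hlt h'
  refine ⟨h8, ?_⟩
  intro S _ _ s t
  let fS : S[X] := f.map (algebraMap K S)
  have hT : taylor t fS = fS + C (fS.eval t) := by
    ext k
    rw [taylor_coeff, coeff_add, coeff_C]
    rcases Nat.eq_zero_or_pos k with hk | hk
    · subst hk
      rw [hasseDeriv_zero', if_pos rfl]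
      change _ = (f.map (algebraMap K S)).coeff 0 + _
      rw [coeff_map, h8, map_zero, zero_add]
    · rw [if_neg hk.ne', add_zero]
      change eval t (hasseDeriv k (f.map (algebraMap K S))) = _
      rw [hasseDeriv_map', h7 k hk, map_C, eval_C]
      change _ = (f.map (algebraMap K S)).coeff k
      rw [coeff_map]
  have e := congrArg (fun q : S[X] => q.eval s) hT
  simp only [taylor_eval, eval_add, eval_C] at e
  change eval (s + t) (f.map (algebraMap K S)) = eval s (f.map (algebraMap K S)) +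
    eval t (f.map (algebraMap K S)) at e
  rw [eval_map, eval_map, eval_map, ← aeval_def, ← aeval_def, ← aeval_def] at e
  exact e

/-! ### multiplicative polynomials -/

theorem isUnit_of_aeval_eq_zero (g : K[X]) (h0 : g.coeff 0 ≠ 0) {R : Type*} [CommRing R]
    [Algebra K R] (a : R) (ha : aeval a g = 0) : IsUnit a := by
  have e := congrArg (aeval a) (divX_mul_X_add g)
  rw [map_add, map_mul, aeval_X, aeval_C, ha] at e
  have hu : IsUnit (algebraMap K R (g.coeff 0)) := (IsUnit.mk0 _ h0).map _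
  obtain ⟨u, hu'⟩ := hu
  have h1 : aeval a g.divX * a = -(u : R) := by
    rw [hu']; exact eq_neg_of_add_eq_zero_left e
  refine IsUnit.of_mul_eq_one (-(aeval a g.divX) * (u⁻¹ : Rˣ)) ?_
  calc a * (-(aeval a g.divX) * (u⁻¹ : Rˣ)) = -(aeval a g.divX * a) * (u⁻¹ : Rˣ) := by ring
    _ = 1 := by rw [h1, neg_neg, Units.mul_inv]

/-- If the roots of the monic polynomial `g` with `g(0) ≠ 0` in every `K`-algebra are stable under
multiplication, then `g = X ^ n - 1`. -/
theorem eq_X_pow_sub_one_of_roots (g : K[X]) (hg : g.Monic) (hd : 0 < g.natDegree)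
    (h0 : g.coeff 0 ≠ 0)
    (h : ∀ (R : Type u) [CommRing R] [Algebra K R] (a b : R), aeval a g = 0 → aeval b g = 0 →
      aeval (a * b) g = 0) :
    g = X ^ g.natDegree - 1 := by
  let n := g.natDegree
  let B := AdjoinRoot g
  haveI : Nontrivial B := AdjoinRoot.nontrivial g (by
    rw [degree_eq_natDegree hg.ne_zero]; exact_mod_cast hd.ne')
  let a₀ : B := AdjoinRoot.root g
  let gB : B[X] := g.map (algebraMap K B)
  have hgB : gB.Monic := hg.map _
  have hnB : gB.natDegree = n := hg.natDegree_map _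
  let R := AdjoinRoot gB
  let a : R := algebraMap B R a₀
  let b : R := AdjoinRoot.root gB
  have ha₀ : aeval a₀ g = 0 := by
    rw [aeval_def]; exact AdjoinRoot.eval₂_root g
  have ha : aeval a g = 0 := by
    change aeval (algebraMap B R a₀) g = 0
    rw [aeval_algebraMap_apply, ha₀, map_zero]
  have hb : aeval b g = 0 := by
    rw [aeval_def, IsScalarTower.algebraMap_eq K B R, ← eval₂_map]
    exact AdjoinRoot.eval₂_root gB
  have hab := h R a b ha hb
  let s : B[X] := gB.comp (C a₀ * X)
  have h1 : eval₂ (algebraMap B R) b s = 0 := by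
    change eval₂ (algebraMap B R) b (gB.comp (C a₀ * X)) = 0
    rw [eval₂_comp', eval₂_mul, eval₂_X, eval₂_C]
    change eval₂ (algebraMap B R) (a * b) (g.map (algebraMap K B)) = 0
    rw [eval₂_map, ← IsScalarTower.algebraMap_eq K B R, ← aeval_def]
    exact hab
  let d : B[X] := s - C (a₀ ^ n) * gB
  have h2 : eval₂ (algebraMap B R) b d = 0 := by
    change eval₂ (algebraMap B R) b (s - C (a₀ ^ n) * gB) = 0
    rw [eval₂_sub, h1, eval₂_mul, AdjoinRoot.algebraMap_eq, AdjoinRoot.eval₂_root gB, mul_zero,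
      sub_zero]
  have h3 : gB ∣ d := by
    rw [← AdjoinRoot.mk_eq_zero, ← h2]
    exact (AdjoinRoot.aeval_eq _).symm.trans (aeval_def _ _)
  have hcoeff : ∀ k : ℕ, d.coeff k = gB.coeff k * a₀ ^ k - a₀ ^ n * gB.coeff k := by
    intro k
    change (gB.comp (C a₀ * X) - C (a₀ ^ n) * gB).coeff k = _
    rw [coeff_sub, comp_C_mul_X_coeff, coeff_C_mul]
  have hdeg : d.degree < gB.degree := by
    rw [degree_eq_natDegree hgB.ne_zero, hnB, degree_lt_iff_coeff_zero]
    intro m hm
    rw [hcoeff]
    rcases hm.eq_or_lt with rfl | hlt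
    · ring
    · rw [coeff_eq_zero_of_natDegree_lt (by rw [hnB]; exact hlt)]; ring
  have h4 : d = 0 := by
    by_contra hne
    exact hgB.not_dvd_of_degree_lt hne hdeg h3
  have h5 := hcoeff 0
  rw [h4, coeff_zero, pow_zero, mul_one] at h5
  have h6 : gB.coeff 0 = algebraMap K B (g.coeff 0) := coeff_map _ _
  have hu : IsUnit (gB.coeff 0) := by rw [h6]; exact (IsUnit.mk0 _ h0).map _
  have h7 : a₀ ^ n = 1 := by
    have : a₀ ^ n * gB.coeff 0 = 1 * gB.coeff 0 := by
      rw [one_mul]; exact (sub_eq_zero.mp h5.symm).symm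
    exact hu.mul_right_cancel this
  have h8 : g ∣ X ^ n - 1 := by
    rw [← AdjoinRoot.mk_eq_zero, map_sub, map_pow, AdjoinRoot.mk_X, map_one, sub_eq_zero]
    exact h7
  have hmon : (X ^ n - 1 : K[X]).Monic := monic_X_pow_sub_C 1 (by omega)
  have hle : (X ^ n - 1 : K[X]).natDegree ≤ g.natDegree := by
    have e1 : (X ^ n - 1 : K[X]) = X ^ n - C 1 := by rw [C_1]
    rw [e1, natDegree_X_pow_sub_C]
  exact (eq_of_monic_of_dvd_of_natDegree_le hg hmon h8 hle).symm


/-! ### flatness and surjectivity of the quotient maps -/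

theorem flat_of_injective_of_dedekind {A : Type*} [CommRing A] [IsDedekindDomain A]
    (ψ : A →+* A) (hψ : Function.Injective ψ) : ψ.Flat := by
  letI alg : Algebra A A := ψ.toAlgebra
  haveI htf : @Module.IsTorsionFree A A _ _ alg.toModule := by
    refine @Module.IsTorsionFree.of_smul_eq_zero A A _ _ alg.toModule _ (fun r m hrm => ?_)
    have h1 : ψ r * m = 0 := hrm
    rcases mul_eq_zero.mp h1 with h2 | h2
    · left; exact hψ (h2.trans (map_zero ψ).symm)
    · right; exact h2
  show @Module.Flat A A _ _ alg.toModule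
  infer_instance

theorem poly_map_eq (ψ : K[X] →+* K[X])
    (hψ : ψ.comp (algebraMap K K[X]) = algebraMap K K[X]) (p : K[X]) : ψ p = p.comp (ψ X) := by
  rw [← eval₂_hom_poly ψ p, hψ]
  rfl

theorem poly_injective (ψ : K[X] →+* K[X])
    (hψ : ψ.comp (algebraMap K K[X]) = algebraMap K K[X]) (hd : 0 < (ψ X).natDegree) :
    Function.Injective ψ := by
  rw [injective_iff_map_eq_zero]
  intro p hp
  rw [poly_map_eq ψ hψ, comp_eq_zero_iff] at hp
  rcases hp with hp | ⟨-, hp⟩
  · exact hp
  · exfalso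
    rw [hp, natDegree_C] at hd
    exact lt_irrefl _ hd

theorem poly_isIntegral (ψ : K[X] →+* K[X])
    (hψ : ψ.comp (algebraMap K K[X]) = algebraMap K K[X]) (hm : (ψ X).Monic)
    (hd : 0 < (ψ X).natDegree) : ψ.IsIntegral := by
  have hX : ψ.IsIntegralElem X := by
    refine ⟨(ψ X).map C - C X, ?_, ?_⟩
    · refine (hm.map C).sub_of_left ?_
      rw [degree_C X_ne_zero, degree_eq_natDegree (hm.map C).ne_zero, hm.natDegree_map]
      exact_mod_cast hd
    · rw [eval₂_sub, eval₂_C, eval₂_map]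
      have : ψ.comp C = C := hψ
      rw [this, eval₂_C_X, sub_self]
  intro q
  induction q using Polynomial.induction_on with
  | C a =>
    have : (C a : K[X]) = ψ (C a) := by
      have := congrArg (fun φ : K →+* K[X] => φ a) hψ
      exact this.symm
    rw [this]
    exact ψ.isIntegralElem_map
  | add p q hp hq => exact RingHom.IsIntegralElem.add ψ hp hq
  | monomial n a h =>
    rw [pow_succ, ← mul_assoc]
    exact RingHom.IsIntegralElem.mul ψ h hX

theorem poly_flat_and_surjective (ψ : K[X] →+* K[X])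
    (hψ : ψ.comp (algebraMap K K[X]) = algebraMap K K[X]) (hm : (ψ X).Monic)
    (hd : 0 < (ψ X).natDegree) : ψ.Flat ∧ Function.Surjective (PrimeSpectrum.comap ψ) :=
  ⟨flat_of_injective_of_dedekind ψ (poly_injective ψ hψ hd),
    (poly_isIntegral ψ hψ hm hd).comap_surjective (poly_injective ψ hψ hd)⟩

open LaurentPolynomial in
theorem laurent_map_toLaurent (ψ : K[T;T⁻¹] →+* K[T;T⁻¹])
    (hψ : ψ.comp (algebraMap K K[T;T⁻¹]) = algebraMap K K[T;T⁻¹]) (n : ℕ)
    (hT : ψ (T 1) = T (n : ℤ)) (p : K[X]) : ψ (toLaurent p) = toLaurent (expand K n p) := by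
  have : (ψ.comp (toLaurent : K[X] →+* K[T;T⁻¹])) =
      ((toLaurent : K[X] →+* K[T;T⁻¹])).comp (expand K n : K[X] →+* K[X]) := by
    refine Polynomial.ringHom_ext (fun a => ?_) ?_
    · rw [RingHom.comp_apply, RingHom.comp_apply]
      change ψ (toLaurent (Polynomial.C a)) = toLaurent (expand K n (Polynomial.C a))
      rw [expand_C, toLaurent_C]
      have := congrArg (fun φ : K →+* K[T;T⁻¹] => φ a) hψ
      simpa using this
    · rw [RingHom.comp_apply, RingHom.comp_apply]
      change ψ (toLaurent X) = toLaurent (expand K n X)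
      rw [expand_X, toLaurent_X, toLaurent_X_pow, hT]
  exact congrArg (fun φ : K[X] →+* K[T;T⁻¹] => φ p) this

open LaurentPolynomial in
theorem laurent_injective (ψ : K[T;T⁻¹] →+* K[T;T⁻¹])
    (hψ : ψ.comp (algebraMap K K[T;T⁻¹]) = algebraMap K K[T;T⁻¹]) (n : ℕ) (hn : 0 < n)
    (hT : ψ (T 1) = T (n : ℤ)) : Function.Injective ψ := by
  rw [injective_iff_map_eq_zero]
  intro q hq
  obtain ⟨m, p, hp⟩ := exists_T_pow q
  have h1 : ψ (toLaurent p) = 0 := by rw [hp, map_mul, hq, zero_mul]
  rw [laurent_map_toLaurent ψ hψ n hT] at h1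
  have h2 : expand K n p = 0 := toLaurent_injective (h1.trans (map_zero _).symm)
  have h3 : p = 0 := expand_injective hn (h2.trans (map_zero _).symm)
  rw [h3, map_zero] at hp
  exact ((isUnit_T (R := K) (m : ℤ)).mul_left_eq_zero).mp hp.symm

open LaurentPolynomial in
theorem laurent_isIntegral (ψ : K[T;T⁻¹] →+* K[T;T⁻¹])
    (hψ : ψ.comp (algebraMap K K[T;T⁻¹]) = algebraMap K K[T;T⁻¹]) (n : ℕ) (hn : 0 < n)
    (hT : ψ (T 1) = T (n : ℤ)) : ψ.IsIntegral := by
  have hTz : ∀ m : ℤ, ψ (T m) = T (n * m) := by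
    have hpos : ∀ m : ℕ, ψ (T (m : ℤ)) = T ((n : ℤ) * m) := fun m => by
      have e : (T (m : ℤ) : K[T;T⁻¹]) = T 1 ^ m := by rw [T_pow, mul_one]
      rw [e, map_pow, hT, T_pow, mul_comm]
    intro m
    obtain ⟨k, rfl | rfl⟩ := m.eq_nat_or_neg
    · exact hpos k
    · have hu : IsUnit (ψ (T (k : ℤ))) := (isUnit_T (R := K) (k : ℤ)).map ψ
      apply hu.mul_left_cancel
      rw [← map_mul, ← T_add, add_neg_cancel, T_zero, map_one, hpos k, ← T_add, mul_neg,
        add_neg_cancel, T_zero]
  have hroot : ∀ m : ℤ, ψ.IsIntegralElem (T m) := by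
    intro m
    refine ⟨X ^ n - Polynomial.C (T m), monic_X_pow_sub_C _ hn.ne', ?_⟩
    rw [eval₂_sub, eval₂_pow, eval₂_X, Polynomial.eval₂_C, hTz, T_pow, sub_self]
  intro q
  induction q using LaurentPolynomial.induction_on' with
  | add p q hp hq => exact RingHom.IsIntegralElem.add ψ hp hq
  | C_mul_T m a =>
    refine RingHom.IsIntegralElem.mul ψ ?_ (hroot m)
    have : (C a : K[T;T⁻¹]) = ψ (C a) := by
      have := congrArg (fun φ : K →+* K[T;T⁻¹] => φ a) hψ
      simpa using this.symm
    rw [this]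
    exact ψ.isIntegralElem_map

open LaurentPolynomial in
instance : IsDedekindDomain K[T;T⁻¹] :=
  IsLocalization.isDedekindDomain K[X] (M := Submonoid.powers (X : K[X]))
    (powers_le_nonZeroDivisors_of_noZeroDivisors X_ne_zero) K[T;T⁻¹]

open LaurentPolynomial in
theorem laurent_flat_and_surjective (ψ : K[T;T⁻¹] →+* K[T;T⁻¹])
    (hψ : ψ.comp (algebraMap K K[T;T⁻¹]) = algebraMap K K[T;T⁻¹]) (n : ℕ) (hn : 0 < n)
    (hT : ψ (T 1) = T (n : ℤ)) : ψ.Flat ∧ Function.Surjective (PrimeSpectrum.comap ψ) :=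
  ⟨flat_of_injective_of_dedekind ψ (laurent_injective ψ hψ n hn hT),
    (laurent_isIntegral ψ hψ n hn hT).comap_surjective (laurent_injective ψ hψ n hn hT)⟩

end Groth.Agent.Helper2.GaGmQuot
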