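import Mathlib
import Groth.Agent.Lib.Helper6.GaGm.Points

/-!
# Points of affine objects over a field, and coordinates on an object isomorphic to one (helper2)
-/

set_option autoImplicit false
set_option backward.isDefEq.respectTransparency.types false
set_option synthInstance.maxHeartbeats 400000
set_option maxHeartbeats 4000000
set_option linter.style.haveILetI false
set_option linter.unusedSectionVars false
set_option linter.unusedVariables false

open CategoryTheory CategoryTheory.Limits AlgebraicGeometry Opposite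
open Groth.Agent.Lib.Helper6.GaGm

namespace Groth.Agent.Helper2.GaGmQuot

universe u

noncomputable section

variable (K : Type u) [Field K] (C : Type u) [CommRing C] [Algebra K C]

/-- The affine object `Spec C` over `Spec K`. -/
abbrev PC : Over (Sk K) := TR K (CommRingCat.ofHom (algebraMap K C))

variable {K C} {T T' : Over (Sk K)}

/-- naturality of the structure maps -/
theorem φT_comp (g : T' ⟶ T) : (φT K T).hom.comp (RingHom.id K) = (φT K T).hom := rfl

theorem φT_nat (g : T' ⟶ T) : (φT K T') = (φT K T) ≫ g.left.appTop := by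
  unfold φT
  rw [Category.assoc, ← Scheme.Hom.comp_appTop, Over.w g]

/-- The underlying morphism to `Spec C` of a point. -/
def lft (y : T ⟶ PC K C) : T.left ⟶ Spec (CommRingCat.of C) := y.left

theorem lft_comp (g : T' ⟶ T) (y : T ⟶ PC K C) : lft (g ≫ y) = g.left ≫ lft y := rfl

theorem lft_w (y : T ⟶ PC K C) :
    lft y ≫ Spec.map (CommRingCat.ofHom (algebraMap K C)) = T.hom := Over.w y

/-- The ring map classified by a point of `Spec C`. -/
def kap (y : T ⟶ PC K C) : C →+* Γ(T.left, ⊤) :=
  ((Scheme.ΓSpecIso (CommRingCat.of C)).inv ≫ (lft y).appTop).hom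

theorem kap_comp_algebraMap (y : T ⟶ PC K C) :
    (kap y).comp (algebraMap K C) = (φT K T).hom := by
  have h : CommRingCat.ofHom (algebraMap K C) ≫ (Scheme.ΓSpecIso (CommRingCat.of C)).inv ≫
      (lft y).appTop = φT K T := by
    unfold φT
    rw [← Category.assoc, Scheme.ΓSpecIso_inv_naturality, Category.assoc,
      ← Scheme.Hom.comp_appTop, lft_w]
  exact congrArg CommRingCat.Hom.hom h

theorem kap_comp (g : T' ⟶ T) (y : T ⟶ PC K C) :
    kap (g ≫ y) = g.left.appTop.hom.comp (kap y) := by
  unfold kap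
  rw [lft_comp, Scheme.Hom.comp_appTop, ← Category.assoc]
  rfl

theorem lft_eq (y : T ⟶ PC K C) :
    lft y = T.left.toSpecΓ ≫ Spec.map (CommRingCat.ofHom (kap y)) := by
  have h1 := Scheme.toSpecΓ_naturality (lft y)
  have h2 := toSpecΓ_SpecMap_ΓSpecIso_inv (CommRingCat.of C)
  have e : CommRingCat.ofHom (kap y) =
      (Scheme.ΓSpecIso (CommRingCat.of C)).inv ≫ (lft y).appTop := rfl
  rw [e, Spec.map_comp, ← Category.assoc, ← h1, Category.assoc, h2, Category.comp_id]

theorem kap_injective : Function.Injective (kap (K := K) (C := C) (T := T)) := by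
  intro y y' h
  ext1
  change lft y = lft y'
  rw [lft_eq y, lft_eq y', h]

/-- The point of a ring map. -/
def ofKap (κ : C →+* Γ(T.left, ⊤)) (h : κ.comp (algebraMap K C) = (φT K T).hom) : T ⟶ PC K C :=
  can K T ≫ TRmap K (CommRingCat.ofHom (algebraMap K C)) (φT K T) (CommRingCat.ofHom κ)
    (by ext1; exact h)

theorem lft_ofKap (κ : C →+* Γ(T.left, ⊤)) (h : κ.comp (algebraMap K C) = (φT K T).hom) :
    lft (ofKap κ h) = T.left.toSpecΓ ≫ Spec.map (CommRingCat.ofHom κ) := rfl

theorem kap_ofKap (κ : C →+* Γ(T.left, ⊤)) (h : κ.comp (algebraMap K C) = (φT K T).hom) :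
    kap (ofKap κ h) = κ := by
  unfold kap
  rw [lft_ofKap, Scheme.Hom.comp_appTop, Scheme.toSpecΓ_appTop, ← Category.assoc,
    ← Scheme.ΓSpecIso_inv_naturality, Category.assoc, Iso.inv_hom_id, Category.comp_id]
  rfl

theorem kap_id : kap (𝟙 (PC K C)) = (Scheme.ΓSpecIso (CommRingCat.of C)).inv.hom := by
  change ((Scheme.ΓSpecIso (CommRingCat.of C)).inv ≫
    (𝟙 (Spec (CommRingCat.of C)) : Spec (CommRingCat.of C) ⟶ Spec (CommRingCat.of C)).appTop).hom = _
  rw [Scheme.Hom.id_appTop, Category.comp_id]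

/-! ### coordinates on an object isomorphic to `Spec C` -/

variable {G : Over (Sk K)} (e : PC K C ≅ G)

/-- The ring map classified by a point of `G`. -/
def co (x : T ⟶ G) : C →+* Γ(T.left, ⊤) := kap (x ≫ e.inv)

theorem co_comp_algebraMap (x : T ⟶ G) : (co e x).comp (algebraMap K C) = (φT K T).hom :=
  kap_comp_algebraMap _

theorem co_comp (g : T' ⟶ T) (x : T ⟶ G) : co e (g ≫ x) = g.left.appTop.hom.comp (co e x) := by
  unfold co
  rw [Category.assoc, kap_comp]

theorem co_injective : Function.Injective (co e (T := T)) := by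
  intro x x' h
  have := kap_injective h
  exact (cancel_mono e.inv).mp this

theorem co_hom : co e e.hom = (Scheme.ΓSpecIso (CommRingCat.of C)).inv.hom := by
  unfold co
  rw [Iso.hom_inv_id, kap_id]

/-- The point of `G` with prescribed ring map. -/
def ofCo (κ : C →+* Γ(T.left, ⊤)) (h : κ.comp (algebraMap K C) = (φT K T).hom) : T ⟶ G :=
  ofKap κ h ≫ e.hom

theorem co_ofCo (κ : C →+* Γ(T.left, ⊤)) (h : κ.comp (algebraMap K C) = (φT K T).hom) :
    co e (ofCo e κ h) = κ := by
  unfold co ofCo
  rw [Category.assoc, Iso.hom_inv_id, Category.comp_id, kap_ofKap]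

/-! ### constructing the isomorphism from a coordinate -/

theorem exists_iso_of_coord (t : C) {G : Over (Sk K)}
    (c : ∀ T : Over (Sk K), (T ⟶ G) → Γ(T.left, ⊤))
    (c_nat : ∀ (T' T : Over (Sk K)) (g : T' ⟶ T) (x : T ⟶ G),
      c T' (g ≫ x) = g.left.appTop.hom (c T x))
    (c_inj : ∀ T, Function.Injective (c T))
    (pt : PC K C ⟶ G)
    (hpt : c _ pt = (Scheme.ΓSpecIso (CommRingCat.of C)).inv.hom t)
    (ρ : C →+* Γ(G.left, ⊤)) (hρK : ρ.comp (algebraMap K C) = (φT K G).hom)
    (hρt : ρ t = c G (𝟙 G))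
    (huniq : ∀ κ κ' : C →+* Γ((PC K C).left, ⊤),
      κ.comp (algebraMap K C) = κ'.comp (algebraMap K C) → κ t = κ' t → κ = κ') :
    ∃ e : PC K C ≅ G, e.hom = pt := by
  let inv : G ⟶ PC K C := ofKap ρ hρK
  have h1 : inv ≫ pt = 𝟙 G := by
    apply c_inj
    rw [c_nat, hpt]
    have : inv.left.appTop.hom ((Scheme.ΓSpecIso (CommRingCat.of C)).inv.hom t) = kap inv t := rfl
    rw [this, kap_ofKap, hρt]
  have h2 : pt ≫ inv = 𝟙 (PC K C) := by
    apply kap_injective
    apply huniq
    · rw [kap_comp_algebraMap, kap_comp_algebraMap]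
    · rw [kap_comp, kap_ofKap, kap_id, RingHom.comp_apply, hρt, ← c_nat, Category.comp_id, hpt]
      rfl
  exact ⟨⟨pt, inv, h2, h1⟩, rfl⟩

end

end Groth.Agent.Helper2.GaGmQuot
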