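import Mathlib
import Groth.Agent.Lib.Helper2.GaGmQuot.Pts

/-!
# Finite subobjects of an affine object with a coordinate: factorisation criterion (helper2)
-/

set_option autoImplicit false
set_option backward.isDefEq.respectTransparency.types false
set_option synthInstance.maxHeartbeats 400000
set_option maxHeartbeats 4000000
set_option linter.style.haveILetI false
set_option linter.unusedSectionVars false
set_option linter.unusedVariables false

open CategoryTheory CategoryTheory.Limits AlgebraicGeometry Opposite Polynomial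
open Groth.Agent.Lib.Helper6.GaGm

namespace Groth.Agent.Helper2.GaGmQuot

universe u

noncomputable section

variable {K : Type u} [Field K] {C : Type u} [CommRing C] [Algebra K C]
  {G H T T' : Over (Sk K)} (e : PC K C ≅ G)

/-- A point of `G` whose ring map kills the kernel of the ring map of the finite monomorphism `i`
factors through `i`. -/
theorem exists_factor (i : H ⟶ G) [Mono i] [IsFinite H.hom] (x : T ⟶ G)
    (hx : RingHom.ker (co e i) ≤ RingHom.ker (co e x)) : ∃ y : T ⟶ H, y ≫ i = x := by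
  let i' : H ⟶ PC K C := i ≫ e.inv
  let il : H.left ⟶ Spec (CommRingCat.of C) := lft i'
  haveI : Mono il := Over.mono_left_of_mono i'
  haveI : IsFinite (il ≫ Spec.map (CommRingCat.ofHom (algebraMap K C))) := by
    rw [lft_w]; infer_instance
  haveI : IsFinite il := IsFinite.of_comp il (Spec.map (CommRingCat.ofHom (algebraMap K C)))
  haveI : IsClosedImmersion il := (IsClosedImmersion.iff_isFinite_and_mono il).mpr ⟨‹_›, ‹_›⟩
  obtain ⟨I, ε, hε⟩ := IsClosedImmersion.Spec_iff.mp ‹IsClosedImmersion il›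
  -- the ring map of `i` kills `I`
  have hI : I ≤ RingHom.ker (co e i) := by
    intro a ha
    rw [RingHom.mem_ker]
    change ((Scheme.ΓSpecIso (CommRingCat.of C)).inv ≫ il.appTop).hom a = 0
    rw [hε, Scheme.Hom.comp_appTop, ← Category.assoc, ← Scheme.ΓSpecIso_inv_naturality]
    change (ε.hom.appTop).hom ((Scheme.ΓSpecIso _).inv.hom (Ideal.Quotient.mk I a)) = 0
    rw [Ideal.Quotient.eq_zero_iff_mem.mpr ha, map_zero, map_zero]
  have hx' : ∀ a ∈ I, co e x a = 0 := fun a ha => hx (hI ha)
  let κb : C ⧸ I →+* Γ(T.left, ⊤) := Ideal.Quotient.lift I (co e x) hx'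
  let yl : T.left ⟶ H.left := T.left.toSpecΓ ≫ Spec.map (CommRingCat.ofHom κb) ≫ ε.inv
  have hyl : yl ≫ il = lft (x ≫ e.inv) := by
    rw [lft_eq (x ≫ e.inv), hε]
    change (T.left.toSpecΓ ≫ Spec.map (CommRingCat.ofHom κb) ≫ ε.inv) ≫ ε.hom ≫ _ = _
    rw [Category.assoc, Category.assoc, Iso.inv_hom_id_assoc, ← Spec.map_comp]
    congr 2
  have hw : yl ≫ H.hom = T.hom := by
    rw [← lft_w i']
    change yl ≫ il ≫ _ = _
    rw [← Category.assoc, hyl, lft_w]
  refine ⟨Over.homMk yl hw, ?_⟩
  rw [← cancel_mono e.inv]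
  ext1
  change yl ≫ il = lft (x ≫ e.inv)
  exact hyl

/-- the structure map and evaluation of polynomials commute with pull back of functions -/
theorem eval₂_nat (g : T' ⟶ T) (s : Γ(T.left, ⊤)) (p : K[X]) :
    eval₂ (φT K T').hom (g.left.appTop.hom s) p = g.left.appTop.hom (eval₂ (φT K T).hom s p) := by
  rw [Polynomial.hom_eval₂, φT_nat g]
  rfl

variable (t : C)
  (hPC : ∀ (R R' : Type u) [CommRing R] [CommRing R'] (κ : C →+* R) (κ' : C →+* R'),
    (∀ p : K[X], eval₂ (κ.comp (algebraMap K C)) (κ t) p = 0 →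
      eval₂ (κ'.comp (algebraMap K C)) (κ' t) p = 0) → RingHom.ker κ ≤ RingHom.ker κ')

include hPC in
theorem factor_iff_forall (i : H ⟶ G) [Mono i] [IsFinite H.hom] (x : T ⟶ G) :
    (∃ y : T ⟶ H, y ≫ i = x) ↔
      ∀ p : K[X], eval₂ (φT K H).hom (co e i t) p = 0 → eval₂ (φT K T).hom (co e x t) p = 0 := by
  constructor
  · rintro ⟨y, rfl⟩ p hp
    rw [co_comp, RingHom.comp_apply, eval₂_nat, hp, map_zero]
  · intro h
    apply exists_factor e i x
    apply hPC
    rw [co_comp_algebraMap, co_comp_algebraMap]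
    exact h

/-- finiteness of the structure map on global sections -/
theorem finite_φT (H : Over (Sk K)) [IsFinite H.hom] : (φT K H).hom.Finite := by
  have h := (HasAffineProperty.iff_of_isAffine (P := @IsFinite) (f := H.hom)).mp ‹_›
  have h2 : ((Scheme.ΓSpecIso (CommRingCat.of K)).inv).hom.Finite :=
    RingHom.Finite.of_surjective _
      (Scheme.ΓSpecIso (CommRingCat.of K)).symm.commRingCatIsoToRingEquiv.surjective
  exact h.2.comp h2

/-- The minimal polynomial of the coordinate of the finite monomorphism `i`. -/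
def mp (i : H ⟶ G) : K[X] :=
  letI := (φT K H).hom.toAlgebra
  minpoly K (co e i t)

theorem mp_monic (i : H ⟶ G) [IsFinite H.hom] : (mp e t i).Monic := by
  letI := (φT K H).hom.toAlgebra
  haveI : Module.Finite K Γ(H.left, ⊤) := finite_φT H
  exact minpoly.monic (Algebra.IsIntegral.isIntegral _)

theorem mp_natDegree_pos (i : H ⟶ G) [IsFinite H.hom] [Nonempty H.left] :
    0 < (mp e t i).natDegree := by
  letI := (φT K H).hom.toAlgebra
  haveI : Module.Finite K Γ(H.left, ⊤) := finite_φT H
  haveI : Nonempty (⊤ : H.left.Opens).toScheme := ⟨⟨Classical.arbitrary _, trivial⟩⟩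
  haveI : Nontrivial Γ(H.left, ⊤) := Scheme.component_nontrivial H.left ⊤
  exact minpoly.natDegree_pos (Algebra.IsIntegral.isIntegral _)

theorem mp_eval (i : H ⟶ G) : eval₂ (φT K H).hom (co e i t) (mp e t i) = 0 := by
  letI := (φT K H).hom.toAlgebra
  exact minpoly.aeval K (co e i t)

theorem mp_dvd (i : H ⟶ G) (p : K[X]) (hp : eval₂ (φT K H).hom (co e i t) p = 0) :
    mp e t i ∣ p := by
  letI := (φT K H).hom.toAlgebra
  exact minpoly.dvd K (co e i t) hp

include hPC in
theorem factor_iff (i : H ⟶ G) [Mono i] [IsFinite H.hom] (x : T ⟶ G) :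
    (∃ y : T ⟶ H, y ≫ i = x) ↔ eval₂ (φT K T).hom (co e x t) (mp e t i) = 0 := by
  rw [factor_iff_forall e t hPC i x]
  constructor
  · intro h
    exact h _ (mp_eval e t i)
  · intro h p hp
    obtain ⟨q, rfl⟩ := mp_dvd e t i p hp
    rw [eval₂_mul, h, zero_mul]

end

end Groth.Agent.Helper2.GaGmQuot
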