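import Mathlib
import Groth.Prelude.Def_AlgGrp
import Groth.Agent.Lib.Helper2.GaGmQuot.Alg
import Groth.Agent.Lib.Helper2.GaGmQuot.Sub

/-!
# Quotient of an additive-type group by a finite subgroup scheme (helper2)
-/

set_option autoImplicit false
set_option backward.isDefEq.respectTransparency.types false
set_option synthInstance.maxHeartbeats 400000
set_option maxHeartbeats 4000000
set_option linter.style.haveILetI false
set_option linter.unusedSectionVars false
set_option linter.unusedVariables false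

open CategoryTheory CategoryTheory.Limits MonoidalCategory CartesianMonoidalCategory MonObj GrpObj
  AlgebraicGeometry Opposite Polynomial
open Groth.Agent.Lib.Helper6.GaGm

namespace Groth.Agent.Helper2.GaGmQuot

universe u

noncomputable section

variable {K : Type u} [Field K]

/-- The identification of `R` with the global functions of the affine object `Spec R`. -/
def gam (R : Type u) [CommRing R] [Algebra K R] : R →+* Γ((PC K R).left, ⊤) :=
  (Scheme.ΓSpecIso (CommRingCat.of R)).inv.hom

/-- The inverse identification. -/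
def gamInv (R : Type u) [CommRing R] [Algebra K R] : Γ((PC K R).left, ⊤) →+* R :=
  (Scheme.ΓSpecIso (CommRingCat.of R)).hom.hom

theorem gamInv_gam (R : Type u) [CommRing R] [Algebra K R] (a : R) :
    gamInv (K := K) R (gam R a) = a := by
  change (Scheme.ΓSpecIso (CommRingCat.of R)).hom.hom
    ((Scheme.ΓSpecIso (CommRingCat.of R)).inv.hom a) = a
  rw [← CommRingCat.comp_apply, Iso.inv_hom_id]
  rfl

theorem gam_injective (R : Type u) [CommRing R] [Algebra K R] :
    Function.Injective (gam (K := K) R) :=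
  (Scheme.ΓSpecIso (CommRingCat.of R)).symm.commRingCatIsoToRingEquiv.injective

/-- the structure map of an affine object -/
theorem φT_PC (R : Type u) [CommRing R] [Algebra K R] :
    (φT K (PC K R)).hom = (gam R).comp (algebraMap K R) := by
  have : φT K (PC K R) =
      CommRingCat.ofHom (algebraMap K R) ≫ (Scheme.ΓSpecIso (CommRingCat.of R)).inv := by
    unfold φT
    exact (Scheme.ΓSpecIso_inv_naturality (CommRingCat.ofHom (algebraMap K R))).symm
  rw [this]
  rfl

theorem eval₂_PC (R : Type u) [CommRing R] [Algebra K R] (a : R) (p : K[X]) :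
    eval₂ (φT K (PC K R)).hom (gam R a) p = gam R (aeval a p) := by
  rw [aeval_def, Polynomial.hom_eval₂, φT_PC]

theorem co_hom' {C : Type u} [CommRing C] [Algebra K C] {G : Over (Sk K)} (e : PC K C ≅ G) :
    co e e.hom = gam C := co_hom e

/-- a group object over `Spec K` is nonempty -/
theorem nonempty_of_grpObj (H : Over (Sk K)) [GrpObj H] : Nonempty H.left :=
  ⟨(η[H].left : (𝟙_ (Over (Sk K))).left ⟶ H.left)
    (show ↥(𝟙_ (Over (Sk K))).left from (IsLocalRing.closedPoint K : PrimeSpectrum K))⟩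

section Add

variable {G : Over (Sk K)} (e : PC K K[X] ≅ G)

theorem co_ext_X {T : Over (Sk K)} (x x' : T ⟶ G) (h : co e x X = co e x' X) : x = x' := by
  apply co_injective e
  apply ext_poly
  · rw [co_comp_algebraMap, co_comp_algebraMap]
  · exact h

theorem exists_pt_add (T : Over (Sk K)) (s : Γ(T.left, ⊤)) : ∃ x : T ⟶ G, co e x X = s := by
  refine ⟨ofCo e (eval₂RingHom (φT K T).hom s) ?_, ?_⟩
  · ext a
    simp [Polynomial.algebraMap_eq]
  · rw [co_ofCo]
    simp

theorem co_comp_X {T T' : Over (Sk K)} (g : T' ⟶ T) (x : T ⟶ G) :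
    co e (g ≫ x) X = g.left.appTop.hom (co e x X) := by
  rw [co_comp]; rfl


/-- A morphism of monoid objects that is multiplicative and unital on points is a homomorphism. -/
theorem isMonHom_of_pts' {D : Type*} [Category D] [CartesianMonoidalCategory D] {X Y : D}
    [MonObj X] [MonObj Y] (f : X ⟶ Y) (h1 : (1 : 𝟙_ D ⟶ X) ≫ f = 1)
    (hmul : ∀ (T : D) (x y : T ⟶ X), (x * y) ≫ f = (x ≫ f) * (y ≫ f)) : IsMonHom f where
  one_hom := by
    rw [Hom.one_def, Hom.one_def, toUnit_unique (toUnit (𝟙_ D)) (𝟙 _), Category.id_comp,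
      Category.id_comp] at h1
    exact h1
  mul_hom := by
    have h := hmul _ (fst X X) (snd X X)
    rw [Hom.mul_def, Hom.mul_def, lift_fst_snd, Category.id_comp, lift_fst_comp_snd_comp] at h
    exact h

variable [GrpObj G]
  (hadd : ∀ (T : Over (Sk K)) (x y : T ⟶ G), co e (x * y) X = co e x X + co e y X)

include hadd in
theorem co_one_X (T : Over (Sk K)) : co e (1 : T ⟶ G) X = 0 := by
  have h := hadd T 1 1
  rw [_root_.mul_one] at h
  exact left_eq_add.mp h

theorem hPC_poly : ∀ (R R' : Type u) [CommRing R] [CommRing R'] (κ : K[X] →+* R) (κ' : K[X] →+* R'),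
    (∀ p : K[X], eval₂ (κ.comp (algebraMap K K[X])) (κ X) p = 0 →
      eval₂ (κ'.comp (algebraMap K K[X])) (κ' X) p = 0) → RingHom.ker κ ≤ RingHom.ker κ' :=
  fun R R' _ _ κ κ' h => pc_poly κ κ' h

variable {H : Over (Sk K)} [GrpObj H] (i : H ⟶ G) [IsMonHom i] [Mono i] [IsFinite H.hom]

include hadd in
/-- the roots of the minimal polynomial are stable under addition -/
theorem roots_add (R : Type u) [CommRing R] [Algebra K R] (a b : R)
    (ha : aeval a (mp e X i) = 0) (hb : aeval b (mp e X i) = 0) :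
    aeval (a + b) (mp e X i) = 0 := by
  obtain ⟨xa, hxa⟩ := exists_pt_add e (PC K R) (gam R a)
  obtain ⟨xb, hxb⟩ := exists_pt_add e (PC K R) (gam R b)
  obtain ⟨ya, hya⟩ := (factor_iff e X hPC_poly i xa).mpr (by
    rw [hxa, eval₂_PC, ha]; exact map_zero _)
  obtain ⟨yb, hyb⟩ := (factor_iff e X hPC_poly i xb).mpr (by
    rw [hxb, eval₂_PC, hb]; exact map_zero _)
  have h1 : (ya * yb) ≫ i = xa * xb := by rw [MonObj.mul_comp, hya, hyb]
  have h2 := (factor_iff e X hPC_poly i (xa * xb)).mp ⟨_, h1⟩
  rw [hadd, hxa, hxb, ← map_add, eval₂_PC] at h2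
  exact gam_injective R (h2.trans (map_zero _).symm)

/-- The quotient morphism. -/
def quotAdd : G ⟶ G :=
  ofCo e (eval₂RingHom (φT K G).hom (eval₂ (φT K G).hom (co e (𝟙 G) X) (mp e X i))) (by
    ext a
    simp [Polynomial.algebraMap_eq])

theorem co_quotAdd {T : Over (Sk K)} (x : T ⟶ G) :
    co e (x ≫ quotAdd e i) X = eval₂ (φT K T).hom (co e x X) (mp e X i) := by
  rw [co_comp_X]
  unfold quotAdd
  rw [co_ofCo]
  simp only [coe_eval₂RingHom, eval₂_X]
  rw [← eval₂_nat, ← co_comp_X, Category.comp_id]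

include hadd in
theorem additive_mp : (mp e X i).coeff 0 = 0 ∧ ∀ (S : Type u) [CommRing S] [Algebra K S] (s t : S),
    aeval (s + t) (mp e X i) = aeval s (mp e X i) + aeval t (mp e X i) := by
  haveI := nonempty_of_grpObj H
  exact additive_of_roots (mp e X i) (mp_monic e X i) (mp_natDegree_pos e X i)
    (fun R _ _ a b ha hb => roots_add e hadd i R a b ha hb)

include hadd in
theorem isMonHom_quotAdd : IsMonHom (quotAdd e i) := by
  obtain ⟨h0, hA⟩ := additive_mp e hadd i
  apply isMonHom_of_pts'
  · apply co_ext_X e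
    rw [co_quotAdd, co_one_X e hadd, eval₂_at_zero, h0, map_zero]
  · intro T x y
    apply co_ext_X e
    rw [co_quotAdd, hadd, hadd, co_quotAdd, co_quotAdd]
    letI := (φT K T).hom.toAlgebra
    exact hA Γ(T.left, ⊤) (co e x X) (co e y X)

include hadd in
theorem isKernel_quotAdd : AlgGrp.IsKernel i (quotAdd e i) := by
  have hcomm : i ≫ quotAdd e i = toUnit H ≫ η[G] := by
    have : toUnit H ≫ η[G] = (1 : H ⟶ G) := (Hom.one_def).symm
    rw [this]
    apply co_ext_X e
    rw [co_quotAdd, mp_eval, co_one_X e hadd]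
  refine ⟨⟨hcomm⟩, ⟨PullbackCone.IsLimit.mk _ (fun s => ?_) (fun s => ?_) (fun s => ?_)
    (fun s m h1 h2 => ?_)⟩⟩
  · have hs : eval₂ (φT K s.pt).hom (co e s.fst X) (mp e X i) = 0 := by
      rw [← co_quotAdd, s.condition]
      have : s.snd ≫ η[G] = (1 : s.pt ⟶ G) := by
        rw [Hom.one_def, toUnit_unique s.snd (toUnit _)]
      rw [this, co_one_X e hadd]
    exact ((factor_iff e X hPC_poly i s.fst).mpr hs).choose
  · have hs : eval₂ (φT K s.pt).hom (co e s.fst X) (mp e X i) = 0 := by
      rw [← co_quotAdd, s.condition]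
      have : s.snd ≫ η[G] = (1 : s.pt ⟶ G) := by
        rw [Hom.one_def, toUnit_unique s.snd (toUnit _)]
      rw [this, co_one_X e hadd]
    exact ((factor_iff e X hPC_poly i s.fst).mpr hs).choose_spec
  · exact toUnit_unique _ _
  · rw [← cancel_mono i, h1]
    have hs : eval₂ (φT K s.pt).hom (co e s.fst X) (mp e X i) = 0 := by
      rw [← co_quotAdd, s.condition]
      have : s.snd ≫ η[G] = (1 : s.pt ⟶ G) := by
        rw [Hom.one_def, toUnit_unique s.snd (toUnit _)]
      rw [this, co_one_X e hadd]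
    exact ((factor_iff e X hPC_poly i s.fst).mpr hs).choose_spec.symm


end Add

/-! ### flatness and surjectivity, from the ring map on `Spec C` -/

section FlatSurj

variable {C : Type u} [CommRing C] [Algebra K C] {G : Over (Sk K)} (e : PC K C ≅ G) (φ : G ⟶ G)

/-- The ring endomorphism of `C` induced by an endomorphism of `G`. -/
def ringEnd : C →+* C := (gamInv C).comp (co e (e.hom ≫ φ))

theorem ringEnd_comp_algebraMap : (ringEnd e φ).comp (algebraMap K C) = algebraMap K C := by
  unfold ringEnd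
  rw [RingHom.comp_assoc, co_comp_algebraMap, φT_PC]
  ext a
  exact gamInv_gam C _

theorem ringEnd_apply (a : C) : ringEnd e φ a = gamInv C (co e (e.hom ≫ φ) a) := rfl

theorem flat_surjective_of_ringEnd (h1 : (ringEnd e φ).Flat)
    (h2 : Function.Surjective (PrimeSpectrum.comap (ringEnd e φ))) :
    Flat φ.left ∧ Surjective φ.left := by
  let m : PC K C ⟶ PC K C := (e.hom ≫ φ) ≫ e.inv
  have hm : lft m = Spec.map (CommRingCat.ofHom (ringEnd e φ)) := by
    have h := lft_eq m
    change lft m = (Spec (CommRingCat.of C)).toSpecΓ ≫ Spec.map (CommRingCat.ofHom (kap m)) at h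
    rw [h, ← SpecMap_ΓSpecIso_hom, ← Spec.map_comp]
    rfl
  have hφ : φ = e.inv ≫ m ≫ e.hom := by
    change φ = e.inv ≫ ((e.hom ≫ φ) ≫ e.inv) ≫ e.hom
    rw [Category.assoc, Category.assoc, Iso.inv_hom_id, Category.comp_id, Iso.inv_hom_id_assoc]
  have hφl : φ.left = e.inv.left ≫ m.left ≫ e.hom.left := by
    conv_lhs => rw [hφ]
    rfl
  haveI : Flat m.left := by
    change Flat (lft m)
    rw [hm]; exact (HasRingHomProperty.Spec_iff (P := @Flat)).mpr h1
  haveI : Surjective m.left := by
    change Surjective (lft m)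
    rw [hm]; exact ⟨h2⟩
  haveI : IsIso e.inv.left := inferInstance
  haveI : IsIso e.hom.left := inferInstance
  rw [hφl]
  exact ⟨inferInstance, inferInstance⟩

end FlatSurj

section Add2

variable {G : Over (Sk K)} (e : PC K K[X] ≅ G) [GrpObj G]
  (hadd : ∀ (T : Over (Sk K)) (x y : T ⟶ G), co e (x * y) X = co e x X + co e y X)
  {H : Over (Sk K)} [GrpObj H] (i : H ⟶ G) [IsMonHom i] [Mono i] [IsFinite H.hom]

theorem ringEnd_quotAdd_X : ringEnd e (quotAdd e i) X = mp e X i := by
  rw [ringEnd_apply, co_quotAdd, co_hom', eval₂_PC, aeval_X_left_apply, gamInv_gam]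

include hadd in
/-- **Main theorem, additive type.** -/
theorem main_add : ∃ φ : G ⟶ G, IsMonHom φ ∧ AlgGrp.IsKernel i φ ∧ Flat φ.left ∧ Surjective φ.left := by
  haveI := nonempty_of_grpObj H
  refine ⟨quotAdd e i, isMonHom_quotAdd e hadd i, isKernel_quotAdd e hadd i, ?_⟩
  obtain ⟨h1, h2⟩ := poly_flat_and_surjective (ringEnd e (quotAdd e i))
    (ringEnd_comp_algebraMap e _) (by rw [ringEnd_quotAdd_X]; exact mp_monic e X i)
    (by rw [ringEnd_quotAdd_X]; exact mp_natDegree_pos e X i)
  exact flat_surjective_of_ringEnd e _ h1 h2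

end Add2

end

end Groth.Agent.Helper2.GaGmQuot
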