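import Mathlib
import Groth.Prelude.Def_AlgGrp
import Groth.Agent.Lib.Helper2.GaGmQuot.MainGa

/-!
# Quotient of a multiplicative-type group by a finite subgroup scheme (helper2)
-/

set_option autoImplicit false
set_option backward.isDefEq.respectTransparency.types false
set_option synthInstance.maxHeartbeats 400000
set_option maxHeartbeats 4000000
set_option linter.style.haveILetI false
set_option linter.unusedSectionVars false
set_option linter.unusedVariables false

open CategoryTheory CategoryTheory.Limits MonoidalCategory CartesianMonoidalCategory MonObj GrpObj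
  AlgebraicGeometry Opposite Polynomial
open Groth.Agent.Lib.Helper6.GaGm

namespace Groth.Agent.Helper2.GaGmQuot

universe u

noncomputable section

variable {K : Type u} [Field K]

open LaurentPolynomial

section Mul

variable {G : Over (Sk K)} (e : PC K K[T;T⁻¹] ≅ G)

theorem co_ext_T {T₀ : Over (Sk K)} (x x' : T₀ ⟶ G) (h : co e x (T 1) = co e x' (T 1)) :
    x = x' := by
  apply co_injective e
  apply ext_laurent
  · rw [co_comp_algebraMap, co_comp_algebraMap]
  · exact h

theorem isUnit_co_T {T₀ : Over (Sk K)} (x : T₀ ⟶ G) : IsUnit (co e x (T 1)) :=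
  (isUnit_T (R := K) 1).map _

theorem exists_pt_mul (T₀ : Over (Sk K)) (s : Γ(T₀.left, ⊤)) (hs : IsUnit s) :
    ∃ x : T₀ ⟶ G, co e x (T 1) = s := by
  refine ⟨ofCo e (LaurentPolynomial.eval₂ (φT K T₀).hom hs.unit) ?_, ?_⟩
  · ext a
    rw [RingHom.comp_apply, LaurentPolynomial.algebraMap_apply, LaurentPolynomial.eval₂_C]
    rfl
  · rw [co_ofCo, LaurentPolynomial.eval₂_T, zpow_one]
    rfl

theorem co_comp_T {T₀ T' : Over (Sk K)} (g : T' ⟶ T₀) (x : T₀ ⟶ G) :
    co e (g ≫ x) (T 1) = g.left.appTop.hom (co e x (T 1)) := by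
  rw [co_comp]; rfl

variable [GrpObj G]
  (hmul : ∀ (T₀ : Over (Sk K)) (x y : T₀ ⟶ G), co e (x * y) (T 1) = co e x (T 1) * co e y (T 1))

include hmul in
theorem co_one_T (T₀ : Over (Sk K)) : co e (1 : T₀ ⟶ G) (T 1) = 1 := by
  have h := hmul T₀ 1 1
  rw [_root_.mul_one] at h
  have hu := isUnit_co_T e (1 : T₀ ⟶ G)
  have h2 : co e (1 : T₀ ⟶ G) (T 1) * 1 = co e (1 : T₀ ⟶ G) (T 1) * co e (1 : T₀ ⟶ G) (T 1) := by
    rw [_root_.mul_one]; exact h
  exact (hu.mul_left_cancel h2).symm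

theorem hPC_laurent : ∀ (R R' : Type u) [CommRing R] [CommRing R'] (κ : K[T;T⁻¹] →+* R)
    (κ' : K[T;T⁻¹] →+* R'),
    (∀ p : K[X], eval₂ (κ.comp (algebraMap K K[T;T⁻¹])) (κ (T 1)) p = 0 →
      eval₂ (κ'.comp (algebraMap K K[T;T⁻¹])) (κ' (T 1)) p = 0) → RingHom.ker κ ≤ RingHom.ker κ' :=
  fun R R' _ _ κ κ' h => pc_laurent κ κ' h

variable {H : Over (Sk K)} [GrpObj H] (i : H ⟶ G) [IsMonHom i] [Mono i] [IsFinite H.hom]

theorem mp_coeff_zero_ne_zero : (mp e (T 1) i).coeff 0 ≠ 0 := by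
  intro h0
  set g := mp e (T 1) i with hg
  have hmon : g.Monic := mp_monic e (T 1) i
  have e1 := divX_mul_X_add g
  rw [h0, map_zero, add_zero] at e1
  have h1 : eval₂ (φT K H).hom (co e i (T 1)) g = 0 := mp_eval e (T 1) i
  rw [← e1, eval₂_mul, eval₂_X] at h1
  have h2 : eval₂ (φT K H).hom (co e i (T 1)) g.divX = 0 :=
    ((isUnit_co_T e i).mul_left_eq_zero).mp h1
  have h3 : g ∣ g.divX := mp_dvd e (T 1) i _ h2
  have hne : g.divX ≠ 0 := by
    intro h
    rw [h, zero_mul] at e1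
    exact hmon.ne_zero e1.symm
  have hpos : 0 < g.natDegree := by
    by_contra hle
    have h0' : g.natDegree = 0 := by omega
    have hC := eq_C_of_natDegree_eq_zero h0'
    rw [h0, map_zero] at hC
    exact hmon.ne_zero hC
  refine hmon.not_dvd_of_natDegree_lt hne ?_ h3
  rw [natDegree_divX_eq_natDegree_tsub_one]
  omega

include hmul in
/-- the roots of the minimal polynomial are stable under multiplication -/
theorem roots_mul (R : Type u) [CommRing R] [Algebra K R] (a b : R)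
    (ha : aeval a (mp e (T 1) i) = 0) (hb : aeval b (mp e (T 1) i) = 0) :
    aeval (a * b) (mp e (T 1) i) = 0 := by
  have hua : IsUnit a := isUnit_of_aeval_eq_zero _ (mp_coeff_zero_ne_zero e i) a ha
  have hub : IsUnit b := isUnit_of_aeval_eq_zero _ (mp_coeff_zero_ne_zero e i) b hb
  obtain ⟨xa, hxa⟩ := exists_pt_mul e (PC K R) (gam R a) (hua.map _)
  obtain ⟨xb, hxb⟩ := exists_pt_mul e (PC K R) (gam R b) (hub.map _)
  obtain ⟨ya, hya⟩ := (factor_iff e (T 1) hPC_laurent i xa).mpr (by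
    rw [hxa, eval₂_PC, ha]; exact map_zero _)
  obtain ⟨yb, hyb⟩ := (factor_iff e (T 1) hPC_laurent i xb).mpr (by
    rw [hxb, eval₂_PC, hb]; exact map_zero _)
  have h1 : (ya * yb) ≫ i = xa * xb := by rw [MonObj.mul_comp, hya, hyb]
  have h2 := (factor_iff e (T 1) hPC_laurent i (xa * xb)).mp ⟨_, h1⟩
  rw [hmul, hxa, hxb, ← map_mul, eval₂_PC] at h2
  exact gam_injective R (h2.trans (map_zero _).symm)

include hmul in
theorem mp_eq : mp e (T 1) i = X ^ (mp e (T 1) i).natDegree - 1 := by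
  haveI := nonempty_of_grpObj H
  exact eq_X_pow_sub_one_of_roots (mp e (T 1) i) (mp_monic e (T 1) i) (mp_natDegree_pos e (T 1) i)
    (mp_coeff_zero_ne_zero e i) (fun R _ _ a b ha hb => roots_mul e hmul i R a b ha hb)

/-- The quotient morphism. -/
def quotMul : G ⟶ G :=
  ofCo e (LaurentPolynomial.eval₂ (φT K G).hom
    ((isUnit_co_T e (𝟙 G)).unit ^ (mp e (T 1) i).natDegree)) (by
    ext a
    rw [RingHom.comp_apply, LaurentPolynomial.algebraMap_apply, LaurentPolynomial.eval₂_C]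
    rfl)

theorem co_quotMul {T₀ : Over (Sk K)} (x : T₀ ⟶ G) :
    co e (x ≫ quotMul e i) (T 1) = co e x (T 1) ^ (mp e (T 1) i).natDegree := by
  rw [co_comp_T]
  unfold quotMul
  rw [co_ofCo, LaurentPolynomial.eval₂_T, zpow_one, Units.val_pow_eq_pow_val, map_pow,
    IsUnit.unit_spec, ← co_comp_T, Category.comp_id]

include hmul in
theorem eval₂_mp {T₀ : Over (Sk K)} (s : Γ(T₀.left, ⊤)) :
    eval₂ (φT K T₀).hom s (mp e (T 1) i) = s ^ (mp e (T 1) i).natDegree - 1 := by
  conv_lhs => rw [mp_eq e hmul i]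
  rw [eval₂_sub, eval₂_pow, eval₂_X, eval₂_one]

include hmul in
theorem isMonHom_quotMul : IsMonHom (quotMul e i) := by
  apply isMonHom_of_pts'
  · apply co_ext_T e
    rw [co_quotMul, co_one_T e hmul, one_pow]
  · intro T₀ x y
    apply co_ext_T e
    rw [co_quotMul, hmul, hmul, co_quotMul, co_quotMul, mul_pow]

include hmul in
theorem isKernel_quotMul : AlgGrp.IsKernel i (quotMul e i) := by
  have hcomm : i ≫ quotMul e i = toUnit H ≫ η[G] := by
    have : toUnit H ≫ η[G] = (1 : H ⟶ G) := (Hom.one_def).symm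
    rw [this]
    apply co_ext_T e
    rw [co_quotMul, co_one_T e hmul]
    have h := mp_eval e (T 1) i
    rw [eval₂_mp e hmul i] at h
    exact sub_eq_zero.mp h
  have key : ∀ s : PullbackCone (quotMul e i) η[G],
      eval₂ (φT K s.pt).hom (co e s.fst (T 1)) (mp e (T 1) i) = 0 := by
    intro s
    rw [eval₂_mp e hmul i, ← co_quotMul, s.condition]
    have : s.snd ≫ η[G] = (1 : s.pt ⟶ G) := by
      rw [Hom.one_def, toUnit_unique s.snd (toUnit _)]
    rw [this, co_one_T e hmul, sub_self]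
  refine ⟨⟨hcomm⟩, ⟨PullbackCone.IsLimit.mk _ (fun s => ?_) (fun s => ?_) (fun s => ?_)
    (fun s m h1 h2 => ?_)⟩⟩
  · exact ((factor_iff e (T 1) hPC_laurent i s.fst).mpr (key s)).choose
  · exact ((factor_iff e (T 1) hPC_laurent i s.fst).mpr (key s)).choose_spec
  · exact toUnit_unique _ _
  · rw [← cancel_mono i, h1]
    exact ((factor_iff e (T 1) hPC_laurent i s.fst).mpr (key s)).choose_spec.symm

theorem ringEnd_quotMul_T :
    ringEnd e (quotMul e i) (T 1) = T ((mp e (T 1) i).natDegree : ℤ) := by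
  rw [ringEnd_apply, co_quotMul, co_hom', ← map_pow, gamInv_gam, T_pow, _root_.mul_one]

include hmul in
/-- **Main theorem, multiplicative type.** -/
theorem main_mul :
    ∃ φ : G ⟶ G, IsMonHom φ ∧ AlgGrp.IsKernel i φ ∧ Flat φ.left ∧ Surjective φ.left := by
  haveI := nonempty_of_grpObj H
  refine ⟨quotMul e i, isMonHom_quotMul e hmul i, isKernel_quotMul e hmul i, ?_⟩
  obtain ⟨h1, h2⟩ := laurent_flat_and_surjective (ringEnd e (quotMul e i))
    (ringEnd_comp_algebraMap e _) (mp e (T 1) i).natDegree (mp_natDegree_pos e (T 1) i)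
    (ringEnd_quotMul_T e i)
  exact flat_surjective_of_ringEnd e _ h1 h2

end Mul

end

end Groth.Agent.Helper2.GaGmQuot
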