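import Mathlib
import Groth.Prelude.Def_AlgGrp
import Groth.Prelude.Def_Red2
import Groth.Agent.Lib.Helper2.GaGmQuot.MainGm
import Groth.Agent.Lib.Helper6.GaGm.GaGrp
import Groth.Agent.Lib.Helper6.DS.Pts

/-!
# `𝔾_a` and `𝔾_m` over a field: quotients by finite subgroup schemes (helper2)
-/

set_option autoImplicit false
set_option backward.isDefEq.respectTransparency.types false
set_option synthInstance.maxHeartbeats 400000
set_option maxHeartbeats 4000000
set_option linter.style.haveILetI false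
set_option linter.unusedSectionVars false
set_option linter.unusedVariables false

open CategoryTheory CategoryTheory.Limits MonoidalCategory CartesianMonoidalCategory MonObj GrpObj
  AlgebraicGeometry Opposite Polynomial
open Groth.Agent.Lib.Helper6.GaGm

namespace Groth.Agent.Helper2.GaGmQuot

universe u

noncomputable section

variable (K : Type u) [Field K]

/-- `𝔾_a` over `Spec K` is `Spec K[X]`, compatibly with the coordinate. -/
theorem exists_iso_Ga : ∃ e : PC K K[X] ≅ Red.Ga (Sk K),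
    ∀ (T : Over (Sk K)) (x : T ⟶ Red.Ga (Sk K)), co e x X = fnOfPt x := by
  obtain ⟨e, he⟩ := exists_iso_of_coord (K := K) (C := K[X]) X (G := Red.Ga (Sk K))
    (fun T x => fnOfPt x) (fun T' T g x => fnOfPt_comp g x) (fun T => fnOfPt_injective)
    (ptOfFn (T := PC K K[X]) (gam K[X] X)) (fnOfPt_ptOfFn _)
    (eval₂RingHom (φT K (Red.Ga (Sk K))).hom (fnOfPt (𝟙 (Red.Ga (Sk K)))))
    (by ext a; simp [Polynomial.algebraMap_eq]) (by simp)
    (fun κ κ' h1 h2 => ext_poly κ κ' h1 h2)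
  refine ⟨e, fun T x => ?_⟩
  have h1 : fnOfPt x = fnOfPt ((x ≫ e.inv) ≫ e.hom) := by
    rw [Category.assoc, Iso.inv_hom_id, Category.comp_id]
  rw [h1, fnOfPt_comp, he, fnOfPt_ptOfFn]
  rfl


open LaurentPolynomial Groth.Agent.Lib.Helper6.DS in
/-- `𝔾_m` over `Spec K` is `Spec K[T;T⁻¹]`, compatibly with the coordinate. -/
theorem exists_iso_Gm : ∃ e : PC K K[T;T⁻¹] ≅ Red.Gm (Sk K),
    ∀ (T₀ : Over (Sk K)) (x : T₀ ⟶ Red.Gm (Sk K)),
      co e x (T 1) = chr x (Multiplicative.ofAdd (1 : ℤ)) := by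
  let u : (Γ((PC K K[T;T⁻¹]).left, ⊤))ˣ := ((isUnit_T (R := K) 1).map (gam K[T;T⁻¹])).unit
  let χ : Multiplicative ℤ →* Γ((PC K K[T;T⁻¹]).left, ⊤) :=
    (Units.coeHom _).comp (zpowersHom _ u)
  have hχ : χ (Multiplicative.ofAdd (1 : ℤ)) = gam K[T;T⁻¹] (T 1) := by
    change ((zpowersHom _ u) (Multiplicative.ofAdd (1 : ℤ)) : Γ((PC K K[T;T⁻¹]).left, ⊤)) = _
    rw [zpowersHom_apply, toAdd_ofAdd, zpow_one]
    rfl
  obtain ⟨e, he⟩ := exists_iso_of_coord (K := K) (C := K[T;T⁻¹]) (T 1) (G := Red.Gm (Sk K))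
    (fun T₀ x => chr x (Multiplicative.ofAdd (1 : ℤ)))
    (fun T' T₀ g x => chr_comp g x _)
    (fun T₀ x x' h => chr_injective (MonoidHom.ext_mint h))
    (ptOfChr (T := PC K K[T;T⁻¹]) χ)
    (by rw [chr_ptOfChr]; exact hχ)
    (LaurentPolynomial.eval₂ (φT K (Red.Gm (Sk K))).hom
      (isUnit_chr (𝟙 (Red.Gm (Sk K))) (Multiplicative.ofAdd (1 : ℤ))).unit)
    (by
      ext a
      rw [RingHom.comp_apply, LaurentPolynomial.algebraMap_apply, LaurentPolynomial.eval₂_C]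
      rfl)
    (by rw [LaurentPolynomial.eval₂_T, zpow_one]; rfl)
    (fun κ κ' h1 h2 => ext_laurent κ κ' h1 h2)
  refine ⟨e, fun T₀ x => ?_⟩
  have h1 : chr x (Multiplicative.ofAdd (1 : ℤ)) =
      chr ((x ≫ e.inv) ≫ e.hom) (Multiplicative.ofAdd (1 : ℤ)) := by
    rw [Category.assoc, Iso.inv_hom_id, Category.comp_id]
  rw [h1, chr_comp, he, chr_ptOfChr, hχ]
  rfl


variable {K}

theorem co_trans {C : Type u} [CommRing C] [Algebra K C] {G G' : Over (Sk K)} (e : PC K C ≅ G')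
    (jj : G ≅ G') {T₀ : Over (Sk K)} (x : T₀ ⟶ G) : co (e ≪≫ jj.symm) x = co e (x ≫ jj.hom) := by
  unfold co
  rw [Iso.trans_inv, Iso.symm_inv, Category.assoc]

open LaurentPolynomial Groth.Agent.Lib.Helper6.DS in
/-- **S15180.** -/
theorem main15180 (G H : Over (Spec (CommRingCat.of K))) [GrpObj G] [GrpObj H]
    (hG : Nonempty (Grp.mk G ≅ Grp.mk (Red.Ga (Spec (CommRingCat.of K)))) ∨
      Nonempty (Grp.mk G ≅ Grp.mk (Red.Gm (Spec (CommRingCat.of K)))))
    (i : H ⟶ G) [IsMonHom i] [Mono i] [IsFinite H.hom] :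
    ∃ φ : G ⟶ G, IsMonHom φ ∧ AlgGrp.IsKernel i φ ∧ Flat φ.left ∧ Surjective φ.left := by
  rcases hG with ⟨⟨θ⟩⟩ | ⟨⟨θ⟩⟩
  · obtain ⟨e, he⟩ := exists_iso_Ga K
    obtain ⟨jj, hjj⟩ : ∃ jj : G ≅ Red.Ga (Sk K), IsMonHom jj.hom :=
      ⟨(Grp.forget _).mapIso θ, by
        change IsMonHom (θ.hom.hom.hom : G ⟶ Red.Ga (Sk K))
        infer_instance⟩
    refine main_add (e ≪≫ jj.symm) (fun T₀ x y => ?_) i
    rw [co_trans, co_trans, co_trans, he, he, he]
    rw [MonObj.mul_comp x y jj.hom, fnOfPt_mul]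
  · obtain ⟨e, he⟩ := exists_iso_Gm K
    obtain ⟨jj, hjj⟩ : ∃ jj : G ≅ Red.Gm (Sk K), IsMonHom jj.hom :=
      ⟨(Grp.forget _).mapIso θ, by
        change IsMonHom (θ.hom.hom.hom : G ⟶ Red.Gm (Sk K))
        infer_instance⟩
    refine main_mul (e ≪≫ jj.symm) (fun T₀ x y => ?_) i
    rw [co_trans, co_trans, co_trans, he, he, he]
    rw [MonObj.mul_comp x y jj.hom, chr_mul]
    rfl

end

end Groth.Agent.Helper2.GaGmQuot
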